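import Mathlib.GroupTheory.Perm.Sign
import Mathlib.GroupTheory.SpecificGroups.Alternating
import Mathlib.GroupTheory.GroupAction.Quotient
import Mathlib.Data.ZMod.Basic
import Mathlib.Tactic

/-!
# Largest abelian subgroups of alternating groups

An abelian group of even permutations of `3 * j + 4 * r` points (`r < 3`) has order at most
`3 ^ j * 4 ^ r`, and those of exactly that order are conjugate under even permutations.
-/

set_option autoImplicit false
set_option linter.unusedSectionVars false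
set_option linter.style.haveILetI false

open Equiv Equiv.Perm

namespace CfsgLib.AltAbelian

/-! ### Arithmetic -/

theorem cube_le (m : ℕ) : m ^ 3 ≤ 3 ^ m := by
  rcases Nat.lt_or_ge m 4 with h | h
  · interval_cases m <;> norm_num
  induction m, h using Nat.le_induction with
  | base => norm_num
  | succ m hm ih =>
    rw [pow_succ 3 m]
    nlinarith [Nat.mul_le_mul_right (m * m) hm]

theorem cube_bad (m : ℕ) (h2 : m ≠ 2) (h3 : m ≠ 3) (h4 : m ≠ 4) : 243 * m ^ 3 ≤ 125 * 3 ^ m := by
  rcases Nat.lt_or_ge m 5 with h | h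
  · interval_cases m <;> first | omega | norm_num at *
  induction m, h using Nat.le_induction with
  | base => norm_num
  | succ m hm ih =>
    have := ih (by omega) (by omega) (by omega)
    rw [pow_succ 3 m]
    nlinarith [Nat.mul_le_mul_right (m * m) hm]

theorem prod_cube_le {ι : Type*} (s : Finset ι) (f : ι → ℕ) : (∏ i ∈ s, f i) ^ 3 ≤ 3 ^ ∑ i ∈ s, f i := by
  rw [← Finset.prod_pow, ← Finset.prod_pow_eq_pow_sum]
  exact Finset.prod_le_prod' fun i _ => cube_le _

theorem canonical {a b j r : ℕ} (hr : r < 3) (h : 3 * a + 4 * b = 3 * j + 4 * r) :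
    3 ^ a * 4 ^ b ≤ 3 ^ j * 4 ^ r ∧ (3 ^ a * 4 ^ b = 3 ^ j * 4 ^ r → a = j ∧ b = r) := by
  obtain ⟨i, rfl⟩ : ∃ i, b = r + 3 * i := ⟨(b - r) / 3, by omega⟩
  obtain rfl : j = a + 4 * i := by omega
  have e1 : 3 ^ a * 4 ^ (r + 3 * i) = 3 ^ a * 4 ^ r * 64 ^ i := by
    rw [pow_add, pow_mul]; norm_num; ring
  have e2 : 3 ^ (a + 4 * i) * 4 ^ r = 3 ^ a * 4 ^ r * 81 ^ i := by
    rw [pow_add, pow_mul]; norm_num; ring
  rw [e1, e2]
  refine ⟨Nat.mul_le_mul_left _ (Nat.pow_le_pow_left (by norm_num) _), fun he => ?_⟩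
  rcases Nat.eq_zero_or_pos i with rfl | hi
  · simp
  · exact absurd (Nat.eq_of_mul_eq_mul_left (by positivity) he)
      (Nat.pow_lt_pow_left (by norm_num : 64 < 81) hi.ne').ne

theorem gap {j r t : ℕ} (hr : r < 3) (h : 243 * t ^ 3 ≤ 125 * 3 ^ (3 * j + 4 * r)) : t < 3 ^ j * 4 ^ r := by
  by_contra hcon
  push Not at hcon
  have h1 := (Nat.mul_le_mul_left 243 (Nat.pow_le_pow_left hcon 3)).trans h
  rw [mul_pow, ← pow_mul, ← pow_mul, pow_add, mul_comm j 3] at h1
  have hp : 0 < 3 ^ (3 * j) := by positivity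
  interval_cases r <;> norm_num at h1 <;> nlinarith

/-! ### Orbits of abelian permutation groups -/

variable {X : Type*} [Fintype X] [DecidableEq X]

/-- The orbits. -/
abbrev Orb (A : Subgroup (Perm X)) : Type _ := Quotient (MulAction.orbitRel A X)

/-- The orbit of a point. -/
abbrev q (A : Subgroup (Perm X)) (x : X) : Orb A := Quotient.mk'' x

/-- The size of an orbit. -/
noncomputable abbrev sz (A : Subgroup (Perm X)) (o : Orb A) : ℕ := Nat.card {x // q A x = o}

variable {A : Subgroup (Perm X)}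

theorem q_apply {a : Perm X} (ha : a ∈ A) (x : X) : q A (a x) = q A x :=
  Quotient.sound' ⟨⟨a, ha⟩, rfl⟩

theorem agree (hA : IsMulCommutative A) {a b : Perm X} (ha : a ∈ A) (hb : b ∈ A) {x y : X}
    (h : a x = b x) (hy : q A y = q A x) : a y = b y := by
  obtain ⟨⟨g, hg⟩, rfl⟩ := Quotient.exact' hy
  show a (g x) = b (g x)
  have e : ∀ c ∈ A, c * g = g * c := fun c hc => congrArg Subtype.val (hA.is_comm.comm ⟨c, hc⟩ ⟨g, hg⟩)
  rw [← Perm.mul_apply, e a ha, Perm.mul_apply, h, ← Perm.mul_apply, ← e b hb, Perm.mul_apply]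

/-- The images of the orbit representatives. -/
noncomputable def rep (A : Subgroup (Perm X)) (a : A) (o : Orb A) : {x // q A x = o} :=
  ⟨(a : Perm X) o.out, (q_apply a.2 _).trans o.out_eq'⟩

theorem eq_of_rep (hA : IsMulCommutative A) (a b : A) {o : Orb A} (h : rep A a o = rep A b o) {y : X}
    (hy : q A y = o) : (a : Perm X) y = (b : Perm X) y :=
  agree hA a.2 b.2 (congrArg Subtype.val h) (hy.trans o.out_eq'.symm)

theorem rep_injective (hA : IsMulCommutative A) : Function.Injective (rep A) := fun a b h =>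
  Subtype.ext (Equiv.ext fun _ => eq_of_rep hA a b (congrFun h _) rfl)

noncomputable instance (A : Subgroup (Perm X)) : Fintype (Orb A) := Fintype.ofFinite _

theorem card_le_prod (hA : IsMulCommutative A) : Nat.card A ≤ ∏ o, sz A o := by
  rw [← Nat.card_pi]
  exact Nat.card_le_card_of_injective _ (rep_injective hA)

theorem sum_sz (A : Subgroup (Perm X)) : ∑ o, sz A o = Nat.card X := by
  rw [← Nat.card_sigma, Nat.card_congr (Equiv.sigmaFiberEquiv (q A))]

theorem two_mul_card_le (hA : IsMulCommutative A) (hev : ∀ a ∈ A, sign a = 1) {o₀ : Orb A} (h2 : sz A o₀ = 2) :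
    2 * Nat.card A ≤ ∏ o, sz A o := by
  classical
  rw [← Finset.mul_prod_erase _ _ (Finset.mem_univ o₀), h2]
  refine Nat.mul_le_mul_left 2 ?_
  have hinj : Function.Injective fun (a : A) (o : {o // o ≠ o₀}) => rep A a o.1 := by
    intro a b h
    have hout : ∀ y, q A y ≠ o₀ → (a : Perm X) y = (b : Perm X) y := fun y hy =>
      eq_of_rep hA a b (congrFun h ⟨_, hy⟩) rfl
    by_contra hne
    set d : Perm X := (b : Perm X)⁻¹ * a
    have hd : d.support ⊆ Finset.univ.filter fun y => q A y = o₀ := by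
      intro y hy
      rw [Finset.mem_filter]
      refine ⟨Finset.mem_univ y, by_contra fun hy' => Perm.mem_support.1 hy ?_⟩
      simp [d, hout y hy']
    have hd1 : d ≠ 1 := fun h' => hne (Subtype.ext (inv_mul_eq_one.1 h').symm)
    have hcard : d.support.card = 2 := by
      refine le_antisymm ((Finset.card_le_card hd).trans ?_) (Perm.two_le_card_support_of_ne_one hd1)
      rw [← Fintype.card_subtype, ← Nat.card_eq_fintype_card]
      exact h2.le
    have h1 := (Perm.card_support_eq_two.1 hcard).sign_eq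
    rw [hev d (mul_mem (inv_mem b.2) a.2)] at h1
    exact absurd h1 (by decide)
  refine (Nat.card_le_card_of_injective _ hinj).trans (le_of_eq ?_)
  rw [Nat.card_pi]
  exact (Finset.prod_subtype (Finset.univ.erase o₀) (fun o => by simp) fun o => sz A o).symm

theorem dichotomy (hA : IsMulCommutative A) (hev : ∀ a ∈ A, sign a = 1) :
    243 * Nat.card A ^ 3 ≤ 125 * 3 ^ Nat.card X ∨
    ∃ a b : ℕ, Nat.card X = 3 * a + 4 * b ∧ ∏ o, sz A o = 3 ^ a * 4 ^ b ∧
      Nat.card A ≤ 3 ^ a * 4 ^ b ∧ (∀ o, sz A o = 3 ∨ sz A o = 4) ∧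
      Nat.card {o // sz A o = 3} = a ∧ Nat.card {o // sz A o = 4} = b := by
  classical
  by_cases h2 : ∃ o, sz A o = 2
  · left
    obtain ⟨o, ho⟩ := h2
    have h1 := Nat.pow_le_pow_left (two_mul_card_le hA hev ho) 3
    have h3 := prod_cube_le Finset.univ (sz A)
    rw [sum_sz] at h3
    rw [mul_pow] at h1
    have h4 := h1.trans h3
    norm_num at h4
    omega
  by_cases hbad : ∃ o, sz A o ≠ 3 ∧ sz A o ≠ 4
  · left
    obtain ⟨o, ho3, ho4⟩ := hbad
    push Not at h2
    have h1 := Nat.pow_le_pow_left (card_le_prod hA) 3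
    have h5 := cube_bad _ (h2 o) ho3 ho4
    have h3 := prod_cube_le (Finset.univ.erase o) (sz A)
    rw [← Finset.mul_prod_erase _ _ (Finset.mem_univ o), mul_pow] at h1
    rw [← sum_sz A, ← Finset.add_sum_erase _ _ (Finset.mem_univ o), pow_add, ← mul_assoc]
    exact (Nat.mul_le_mul_left 243 h1).trans (by rw [← mul_assoc]; exact Nat.mul_le_mul h5 h3)
  push Not at hbad
  have hall : ∀ o, sz A o = 3 ∨ sz A o = 4 := fun o => by
    by_cases h : sz A o = 3
    · exact Or.inl h
    · exact Or.inr (hbad o h)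
  set S3 := Finset.univ.filter fun o => sz A o = 3
  set S4 := Finset.univ.filter fun o => sz A o = 4
  have hun : S3 ∪ S4 = Finset.univ := by
    ext o
    simp only [S3, S4, Finset.mem_union, Finset.mem_filter, Finset.mem_univ, true_and, iff_true]
    exact hall o
  have hdis : Disjoint S3 S4 := Finset.disjoint_filter.2 fun o _ h => by omega
  have hprod : ∏ o, sz A o = 3 ^ S3.card * 4 ^ S4.card := by
    rw [← hun, Finset.prod_union hdis]
    congr 1 <;> rw [Finset.prod_congr rfl fun o ho => (Finset.mem_filter.1 ho).2, Finset.prod_const]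
  refine Or.inr ⟨S3.card, S4.card, ?_, hprod, hprod ▸ card_le_prod hA, hall, ?_, ?_⟩
  · rw [← sum_sz A, ← hun, Finset.sum_union hdis]
    rw [Finset.sum_congr rfl fun o ho => (Finset.mem_filter.1 ho).2,
      Finset.sum_congr rfl fun o ho => (Finset.mem_filter.1 ho).2]
    rw [Finset.sum_const, Finset.sum_const, smul_eq_mul, smul_eq_mul]; ring
  · rw [Nat.card_eq_fintype_card, Fintype.card_subtype]
  · rw [Nat.card_eq_fintype_card, Fintype.card_subtype]

theorem card_le (hA : IsMulCommutative A) (hev : ∀ a ∈ A, sign a = 1) {j r : ℕ} (hr : r < 3)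
    (hn : Nat.card X = 3 * j + 4 * r) : Nat.card A ≤ 3 ^ j * 4 ^ r := by
  rcases dichotomy hA hev with h | ⟨a, b, hab, -, hle, -⟩
  · exact (gap hr (hn ▸ h)).le
  · exact hle.trans (canonical hr (hab.symm.trans hn)).1

/-! ### Semiregular even permutations of three or four points -/

/-- Even and semiregular. -/
def EvenFree {m : ℕ} (u : Perm (Fin m)) : Prop := sign u = 1 ∧ ∀ x, u x = x → ∀ y, u y = y

instance {m : ℕ} : DecidablePred (EvenFree (m := m)) := fun u => by unfold EvenFree; infer_instance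

theorem evenFree_unique_three : ∀ u v : Perm (Fin 3), EvenFree u → EvenFree v → ∀ x, u x = v x → u = v := by
  decide +kernel

theorem evenFree_unique_four : ∀ u v : Perm (Fin 4), EvenFree u → EvenFree v → ∀ x, u x = v x → u = v := by
  decide +kernel

/-- `g` agrees on `S` with an even permutation supported in `S` and is semiregular there. -/
def EvenFreeOn (g : Perm X) (S : X → Prop) : Prop :=
  (∀ x, S (g x) ↔ S x) ∧ (∀ x, S x → g x = x → ∀ y, S y → g y = y) ∧
    ∃ g' : Perm X, sign g' = 1 ∧ (∀ x, ¬ S x → g' x = x) ∧ ∀ x, S x → g' x = g x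

theorem EvenFreeOn.sign_subtypePerm {g : Perm X} {S : X → Prop} [DecidablePred S] (h : EvenFreeOn g S) :
    sign (g.subtypePerm h.1) = 1 := by
  obtain ⟨g', h1, h2, h3⟩ := h.2.2
  have hS' : ∀ x, S (g' x) ↔ S x := fun x => by
    by_cases hx : S x
    · rw [h3 x hx]; exact h.1 x
    · rw [h2 x hx]
  have e : g.subtypePerm h.1 = g'.subtypePerm hS' := by
    ext ⟨x, hx⟩
    exact (h3 x hx).symm
  rw [e, Perm.sign_subtypePerm g' hS' fun x hx => by_contra fun hn => hx (h2 x hn), h1]

theorem EvenFreeOn.unique {g k : Perm X} {S : X → Prop} [DecidablePred S] (hg : EvenFreeOn g S)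
    (hk : EvenFreeOn k S) (hS : Nat.card {x // S x} = 3 ∨ Nat.card {x // S x} = 4) {x : X} (hx : S x)
    (h : g x = k x) {y : X} (hy : S y) : g y = k y := by
  classical
  rw [Nat.card_eq_fintype_card] at hS
  have key : ∀ m : ℕ, Fintype.card {x // S x} = m →
      (∀ u v : Perm (Fin m), EvenFree u → EvenFree v → ∀ x, u x = v x → u = v) → g y = k y := by
    intro m hm huniq
    let e := Fintype.equivFinOfCardEq hm
    have hef : ∀ {f : Perm X} (hf : EvenFreeOn f S), EvenFree (e.permCongr (f.subtypePerm hf.1)) := by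
      intro f hf
      refine ⟨by rw [Perm.sign_permCongr, hf.sign_subtypePerm], fun z hz w => ?_⟩
      rw [Equiv.permCongr_apply] at hz ⊢
      have h1 : f.subtypePerm hf.1 (e.symm z) = e.symm z := e.injective (by rw [hz, Equiv.apply_symm_apply])
      have h2 : f.subtypePerm hf.1 (e.symm w) = e.symm w :=
        Subtype.ext (hf.2.1 _ (e.symm z).2 (congrArg Subtype.val h1) _ (e.symm w).2)
      rw [h2, Equiv.apply_symm_apply]
    have h3 := huniq _ _ (hef hg) (hef hk) (e ⟨x, hx⟩) (by
      rw [Equiv.permCongr_apply, Equiv.permCongr_apply, Equiv.symm_apply_apply]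
      exact congrArg e (Subtype.ext h))
    exact congrArg Subtype.val (Equiv.ext_iff.1 (e.permCongr.injective h3) ⟨y, hy⟩)
  rcases hS with h' | h'
  · exact key 3 h' evenFree_unique_three
  · exact key 4 h' evenFree_unique_four

theorem evenFreeOn_of_mem (hA : IsMulCommutative A) (hev : ∀ a ∈ A, sign a = 1)
    (hsur : Function.Surjective (rep A)) {a : Perm X} (ha : a ∈ A) (o : Orb A) :
    EvenFreeOn a (fun x => q A x = o) := by
  classical
  refine ⟨fun x => by show q A (a x) = o ↔ q A x = o; rw [q_apply ha], fun x hx hax y hy => ?_, ?_⟩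
  · simpa using agree hA ha (one_mem A) (by simpa using hax) (hy.trans hx.symm)
  obtain ⟨b, hb⟩ := hsur (Function.update (rep A 1) o (rep A ⟨a, ha⟩ o))
  refine ⟨b, hev b b.2, fun x hx => ?_, fun x hx => ?_⟩
  · have h1 : rep A b (q A x) = rep A 1 (q A x) := by rw [hb, Function.update_of_ne hx]
    simpa using eq_of_rep hA b 1 h1 rfl
  · exact eq_of_rep hA b ⟨a, ha⟩ (by rw [hb, Function.update_self]) hx

theorem of_card_eq (hA : IsMulCommutative A) (hev : ∀ a ∈ A, sign a = 1) {j r : ℕ} (hr : r < 3)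
    (hn : Nat.card X = 3 * j + 4 * r) (hcard : Nat.card A = 3 ^ j * 4 ^ r) :
    Function.Surjective (rep A) ∧ (∀ o, sz A o = 3 ∨ sz A o = 4) ∧
      Nat.card {o // sz A o = 3} = j ∧ Nat.card {o // sz A o = 4} = r := by
  rcases dichotomy hA hev with h | ⟨a, b, hab, hprod, hle, hall, h3, h4⟩
  · exact absurd hcard (gap hr (hn ▸ h)).ne
  have hc := canonical hr (hab.symm.trans hn)
  have he : 3 ^ a * 4 ^ b = 3 ^ j * 4 ^ r := le_antisymm hc.1 (hcard ▸ hle)
  obtain ⟨rfl, rfl⟩ := hc.2 he
  refine ⟨((rep_injective hA).bijective_of_nat_card_le ?_).2, hall, h3, h4⟩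
  rw [Nat.card_pi, hcard, ← hprod]

theorem exists_conj {B : Subgroup (Perm X)} (hA : IsMulCommutative A) (hB : IsMulCommutative B)
    (hevA : ∀ a ∈ A, sign a = 1) (hevB : ∀ b ∈ B, sign b = 1) {j r : ℕ} (hr : r < 3) (h0 : 0 < j + r)
    (hn : Nat.card X = 3 * j + 4 * r) (hcA : Nat.card A = 3 ^ j * 4 ^ r) (hcB : Nat.card B = 3 ^ j * 4 ^ r) :
    ∃ s : Perm X, sign s = 1 ∧ ∀ a ∈ A, s * a * s⁻¹ ∈ B := by
  classical
  obtain ⟨hsA, hallA, h3A, h4A⟩ := of_card_eq hA hevA hr hn hcA
  obtain ⟨hsB, hallB, h3B, h4B⟩ := of_card_eq hB hevB hr hn hcB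
  have hfib : ∀ k, Nonempty ({o // sz A o = k} ≃ {o // sz B o = k}) := fun k => by
    refine Finite.card_eq.1 ?_
    by_cases h3 : k = 3
    · subst h3; rw [h3A, h3B]
    by_cases h4 : k = 4
    · subst h4; rw [h4A, h4B]
    haveI : IsEmpty {o // sz A o = k} := ⟨fun o => by have := o.2; rcases hallA o.1 with h | h <;> omega⟩
    haveI : IsEmpty {o // sz B o = k} := ⟨fun o => by have := o.2; rcases hallB o.1 with h | h <;> omega⟩
    rw [Nat.card_of_isEmpty, Nat.card_of_isEmpty]
  let e : Orb A ≃ Orb B := Equiv.ofFiberEquiv fun k => (hfib k).some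
  have he : ∀ o, sz B (e o) = sz A o := fun o => Equiv.ofFiberEquiv_map _ o
  let f : ∀ o, {x // q A x = o} ≃ {x // q B x = e o} := fun o => (Finite.card_eq.1 (he o).symm).some
  let s₀ : Perm X := ((Equiv.sigmaFiberEquiv (q A)).symm.trans (Equiv.sigmaCongr e f)).trans
    (Equiv.sigmaFiberEquiv (q B))
  have hs₀ : ∀ x, q B (s₀ x) = e (q A x) := fun x => (f (q A x) ⟨x, rfl⟩).2
  obtain ⟨s, hs1, hs⟩ : ∃ s : Perm X, sign s = 1 ∧ ∀ x, q B (s x) = e (q A x) := by
    rcases Int.units_eq_one_or (sign s₀) with h | h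
    · exact ⟨s₀, h, hs₀⟩
    haveI : Nonempty X := by
      rw [← not_isEmpty_iff]
      intro hX
      rw [Nat.card_of_isEmpty] at hn
      omega
    obtain ⟨x⟩ := ‹Nonempty X›
    obtain ⟨⟨y, hy⟩, hxy⟩ : ∃ z : {z // q A z = q A x}, z ≠ ⟨x, rfl⟩ := by
      haveI : Nontrivial {z // q A z = q A x} := by
        rw [← Finite.one_lt_card_iff_nontrivial]
        show 1 < sz A (q A x)
        rcases hallA (q A x) with h | h <;> omega
      exact exists_ne _
    refine ⟨s₀ * swap x y, by
      rw [map_mul, h, Perm.sign_swap fun e' => hxy (Subtype.ext e'.symm)]; decide, fun z => ?_⟩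
    rw [Perm.mul_apply, hs₀]
    congr 1
    by_cases hzx : z = x
    · rw [hzx, swap_apply_left]; exact hy
    by_cases hzy : z = y
    · rw [hzy, swap_apply_right]; exact hy.symm
    rw [swap_apply_of_ne_of_ne hzx hzy]
  refine ⟨s, hs1, fun a ha => ?_⟩
  set t := s * a * s⁻¹
  have hinv : ∀ x, s (s⁻¹ x) = x := fun x => s.apply_symm_apply x
  have hback : ∀ x, q A (s⁻¹ x) = e.symm (q B x) := fun x => by
    rw [Equiv.eq_symm_apply, ← hs, hinv]
  have htq : ∀ x, q B (t x) = q B x := fun x => by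
    show q B (s (a (s⁻¹ x))) = q B x
    rw [hs, q_apply ha, hback, Equiv.apply_symm_apply]
  have ht : ∀ o, EvenFreeOn t (fun x => q B x = o) := fun o => by
    have hf := evenFreeOn_of_mem hA hevA hsA ha (e.symm o)
    have hiff : ∀ x, q B x = o ↔ q A (s⁻¹ x) = e.symm o := fun x => by
      rw [hback, e.symm.injective.eq_iff]
    refine ⟨fun x => by show q B (t x) = o ↔ q B x = o; rw [htq], fun x hx htx y hy => ?_, ?_⟩
    · have h1 : a (s⁻¹ x) = s⁻¹ x := s.injective (by rw [hinv]; exact htx)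
      show s (a (s⁻¹ y)) = y
      rw [hf.2.1 _ ((hiff x).1 hx) h1 _ ((hiff y).1 hy), hinv]
    obtain ⟨g', h1, h2, h3⟩ := hf.2.2
    refine ⟨s * g' * s⁻¹, by rw [map_mul, map_mul, map_inv, h1, hs1, mul_one, inv_one, mul_one],
      fun x hx => ?_, fun x hx => ?_⟩
    · show s (g' (s⁻¹ x)) = x
      rw [h2 _ (fun h' => hx ((hiff x).2 h')), hinv]
    · show s (g' (s⁻¹ x)) = s (a (s⁻¹ x))
      rw [h3 _ ((hiff x).1 hx)]
  obtain ⟨b, hb⟩ := hsB fun o => ⟨t o.out, (htq _).trans o.out_eq'⟩
  have : t = (b : Perm X) := Equiv.ext fun x =>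
    (ht (q B x)).unique (evenFreeOn_of_mem hB hevB hsB b.2 (q B x)) (hallB _) (Quotient.out_eq' _)
      (congrArg Subtype.val (congrFun hb (q B x))).symm rfl
  rw [this]
  exact b.2

/-! ### Examples of the largest size -/

theorem exists_large (j r n : ℕ) (hn : n = 3 * j + 4 * r) :
    ∃ A : Subgroup (alternatingGroup (Fin n)), IsMulCommutative A ∧ Nat.card A = 3 ^ j * 4 ^ r := by
  classical
  let Y := (Fin j × ZMod 3) ⊕ (Fin r × (ZMod 2 × ZMod 2))
  let φ : Multiplicative ((Fin j → ZMod 3) × (Fin r → ZMod 2 × ZMod 2)) →* Perm Y :=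
    { toFun := fun v => Equiv.sumCongr
        (Equiv.prodCongrRight fun i => Equiv.addRight ((Multiplicative.toAdd v).1 i))
        (Equiv.prodCongrRight fun i => Equiv.addRight ((Multiplicative.toAdd v).2 i))
      map_one' := by
        apply Equiv.ext
        rintro (⟨i, x⟩ | ⟨i, x⟩) <;> simp
      map_mul' := fun v w => by
        apply Equiv.ext
        rintro (⟨i, x⟩ | ⟨i, x⟩) <;>
          simp [add_left_comm, add_comm, add_assoc] }
  have hinj : Function.Injective φ := fun v w h => by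
    apply Multiplicative.toAdd.injective
    refine Prod.ext (funext fun i => ?_) (funext fun i => ?_)
    · have h' : (Sum.inl (i, 0 + (Multiplicative.toAdd v).1 i) : Y) =
          Sum.inl (i, 0 + (Multiplicative.toAdd w).1 i) := Equiv.ext_iff.1 h (Sum.inl (i, 0))
      simpa using h'
    · have h' : (Sum.inr (i, 0 + (Multiplicative.toAdd v).2 i) : Y) =
          Sum.inr (i, 0 + (Multiplicative.toAdd w).2 i) := Equiv.ext_iff.1 h (Sum.inr (i, 0))
      simpa using h'
  have hcard : Fintype.card Y = n := by simp [Y, hn]; ring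
  let e := Fintype.equivFinOfCardEq hcard
  have h3 : ∀ t : ZMod 3, sign (Equiv.addRight t) = 1 := by decide +kernel
  have h4 : ∀ t : ZMod 2 × ZMod 2, sign (Equiv.addRight t) = 1 := by decide +kernel
  let ψ : Multiplicative ((Fin j → ZMod 3) × (Fin r → ZMod 2 × ZMod 2)) →* alternatingGroup (Fin n) :=
    ((Equiv.permCongrHom e).toMonoidHom.comp φ).codRestrict _ fun v => by
      rw [mem_alternatingGroup]
      show sign (e.permCongr (φ v)) = 1
      rw [Perm.sign_permCongr]
      show sign (Equiv.sumCongr _ _) = 1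
      rw [Perm.sign_sumCongr, Perm.sign_prodCongrRight, Perm.sign_prodCongrRight]
      simp [h3, h4]
  have hψ : Function.Injective ψ := fun v w h =>
    hinj ((Equiv.permCongrHom e).injective (congrArg Subtype.val h))
  refine ⟨ψ.range, ⟨⟨fun x y => ?_⟩⟩, ?_⟩
  · obtain ⟨_, v, rfl⟩ := x
    obtain ⟨_, w, rfl⟩ := y
    apply Subtype.ext
    show ψ v * ψ w = ψ w * ψ v
    rw [← map_mul, ← map_mul, mul_comm]
  · rw [← Nat.card_congr (MonoidHom.ofInjective hψ).toEquiv, Nat.card_congr Multiplicative.toAdd, Nat.card_prod]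
    simp

theorem map_even {n : ℕ} (A : Subgroup (alternatingGroup (Fin n))) (hA : IsMulCommutative A) :
    IsMulCommutative (A.map (alternatingGroup (Fin n)).subtype) ∧
      (∀ a ∈ A.map (alternatingGroup (Fin n)).subtype, sign a = 1) ∧
      Nat.card (A.map (alternatingGroup (Fin n)).subtype) = Nat.card A := by
  refine ⟨⟨⟨?_⟩⟩, ?_, Subgroup.card_map_of_injective (Subgroup.subtype_injective _)⟩
  · rintro ⟨_, a, ha, rfl⟩ ⟨_, b, hb, rfl⟩
    exact Subtype.ext (congrArg (fun c : A => ((c : alternatingGroup (Fin n)) : Perm (Fin n)))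
      (hA.is_comm.comm ⟨a, ha⟩ ⟨b, hb⟩))
  · rintro _ ⟨a, -, rfl⟩
    exact mem_alternatingGroup.1 a.2

theorem isGreatest (j r n : ℕ) (hr : r < 3) (hn : n = 3 * j + 4 * r) :
    IsGreatest {c : ℕ | ∃ A : Subgroup (alternatingGroup (Fin n)), IsMulCommutative A ∧ Nat.card A = c}
      (3 ^ j * 4 ^ r) := by
  refine ⟨exists_large j r n hn, ?_⟩
  rintro c ⟨A, hA, rfl⟩
  obtain ⟨h1, h2, h3⟩ := map_even A hA
  rw [← h3]
  exact card_le h1 h2 hr (by rw [Nat.card_fin, hn])

end CfsgLib.AltAbelian
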