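import Mathlib.GroupTheory.SpecificGroups.Alternating
import Mathlib.GroupTheory.Perm.Cycle.Type
import Mathlib.GroupTheory.Perm.ViaEmbedding
import Mathlib.Algebra.Group.End
import Mathlib.Tactic.Abel
import Mathlib.Tactic.FinCases

/-!
`Aut(A_n) = S_n` for `4 ≤ n`, `n ≠ 6`, in the form: conjugation `S_n → Aut(A_n)` is bijective.
-/

set_option autoImplicit false
set_option linter.unusedSectionVars false
set_option linter.unusedSimpArgs false

namespace CfsgLib.AltAut

open Equiv Equiv.Perm

variable {α : Type*} [Fintype α] [DecidableEq α]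

/-- The three-cycle `a ↦ b ↦ c ↦ a`. -/
def cyc (a b c : α) : Perm α := swap a b * swap b c

theorem cyc_apply_fst {a b c : α} (hab : a ≠ b) (hac : a ≠ c) : cyc a b c a = b := by
  simp [cyc, swap_apply_of_ne_of_ne hab hac]

theorem cyc_apply_snd {a b c : α} (hac : a ≠ c) (hbc : b ≠ c) : cyc a b c b = c := by
  simp [cyc, swap_apply_of_ne_of_ne hac.symm hbc.symm]

theorem cyc_apply_trd (a b c : α) : cyc a b c c = a := by
  simp [cyc]

theorem cyc_apply_other {a b c x : α} (ha : x ≠ a) (hb : x ≠ b) (hc : x ≠ c) :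
    cyc a b c x = x := by
  simp [cyc, swap_apply_of_ne_of_ne ha hb, swap_apply_of_ne_of_ne hb hc]

theorem cyc_conj (σ : Perm α) (a b c : α) : σ * cyc a b c * σ⁻¹ = cyc (σ a) (σ b) (σ c) := by
  ext x
  obtain ⟨y, rfl⟩ := σ.surjective x
  simp [cyc, swap_apply_def]
  split_ifs <;> simp_all

theorem cyc_isThreeCycle {a b c : α} (hab : a ≠ b) (hac : a ≠ c) (hbc : b ≠ c) :
    (cyc a b c).IsThreeCycle := by
  have h := isThreeCycle_swap_mul_swap_same hab.symm hbc hac
  have : cyc a b c = swap b a * swap b c := by rw [cyc, swap_comm a b]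
  rw [this]; exact h

theorem cycle_orbit {f : Perm α} (h3 : f ^ 3 = 1) {a : α} (ha : f a ≠ a) :
    f (f (f a)) = a ∧ a ≠ f a ∧ a ≠ f (f a) ∧ f a ≠ f (f a) := by
  have h : f (f (f a)) = a := by
    have := congrArg (fun g : Perm α => g a) h3
    simpa [pow_succ] using this
  refine ⟨h, Ne.symm ha, fun he => ha ?_, fun he => ha (f.injective he).symm⟩
  rw [← he] at h; exact h

theorem threeCycle_pow_three {f : Perm α} (hf : f.IsThreeCycle) : f ^ 3 = 1 := by
  rw [← hf.orderOf]; exact pow_orderOf_eq_one f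

theorem threeCycle_eq_cyc {f : Perm α} (hf : f.IsThreeCycle) {a : α} (ha : f a ≠ a) :
    f = cyc a (f a) (f (f a)) := by
  obtain ⟨h, hab, hac, hbc⟩ := cycle_orbit (threeCycle_pow_three hf) ha
  ext x
  by_cases h1 : x = a
  · subst h1; rw [cyc_apply_fst hab hac]
  by_cases h2 : x = f a
  · subst h2; rw [cyc_apply_snd hac hbc]
  by_cases h4 : x = f (f a)
  · subst h4; rw [cyc_apply_trd, h]
  rw [cyc_apply_other h1 h2 h4]
  by_contra hne
  have hs : ({a, f a, f (f a), x} : Finset α) ⊆ f.support := by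
    intro y hy
    simp only [Finset.mem_insert, Finset.mem_singleton] at hy
    rw [mem_support]
    rcases hy with rfl | rfl | rfl | rfl
    · exact ha
    · exact hbc.symm
    · rw [h]; exact hac
    · exact hne
  have hc : ({a, f a, f (f a), x} : Finset α).card = 4 := by
    rw [Finset.card_insert_of_notMem, Finset.card_insert_of_notMem, Finset.card_insert_of_notMem,
      Finset.card_singleton] <;> simp [hab, hac, hbc, Ne.symm h1, Ne.symm h2, Ne.symm h4]
  have := Finset.card_le_card hs
  rw [hc, hf.card_support] at this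
  omega

/-- Two three-cycles whose product is an involution share an edge. -/
theorem common_edge {p q : Perm α} (hp : p.IsThreeCycle) (hq : q.IsThreeCycle)
    (h1 : p * q ≠ 1) (h2 : (p * q) ^ 2 = 1) : ∃ x, p x ≠ x ∧ q x = p x := by
  by_contra hno
  push Not at hno
  by_cases hd : ∃ a, p a ≠ a ∧ q a ≠ a
  · obtain ⟨a, hpa, hqa⟩ := hd
    obtain ⟨hp3, hab, hac, hbc⟩ := cycle_orbit (threeCycle_pow_three hp) hpa
    obtain ⟨hq3, hae, haf, hef⟩ := cycle_orbit (threeCycle_pow_three hq) hqa
    have hP := threeCycle_eq_cyc hp hpa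
    have hQ := threeCycle_eq_cyc hq hqa
    generalize hbd : p a = b at *
    generalize hcd : p b = c at *
    generalize hed : q a = e at *
    generalize hfd : q e = f at *
    have heb : e ≠ b := fun h => hno a (by rw [hbd]; exact hab.symm) (by rw [hbd, hed, h])
    have hfc : f ≠ c := fun h => hno c (by rw [hp3]; exact hac) (by rw [hp3, ← h, hq3])
    have hev : ∀ y, p (q (p (q y))) = y := fun y => by
      have := congrArg (fun g : Perm α => g y) h2
      simpa [pow_two] using this
    by_cases hec : e = c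
    · subst hec
      by_cases hfb : f = b
      · subst hfb
        apply h1
        have : ∀ y, p (q y) = y := by
          intro y
          by_cases hy1 : y = a
          · subst hy1; rw [hed, hp3]
          by_cases hy2 : y = f
          · subst hy2; rw [hq3, hbd]
          by_cases hy3 : y = e
          · subst hy3; rw [hfd, hcd]
          rw [hQ, cyc_apply_other hy1 hy3 hy2, hP, cyc_apply_other hy1 hy2 hy3]
        ext y; simpa using this y
      · have hpf : p f = f := by rw [hP]; exact cyc_apply_other haf.symm hfb hfc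
        have := hev e
        rw [hfd, hpf, hq3, hbd] at this
        exact hbc this
    · have hpe : p e = e := by rw [hP]; exact cyc_apply_other hae.symm heb hec
      have := hev a
      rw [hed, hpe, hfd] at this
      by_cases hfb : f = b
      · rw [hfb, hcd] at this; exact hac this.symm
      · have hpf : p f = f := by rw [hP]; exact cyc_apply_other haf.symm hfb hfc
        rw [hpf] at this; exact haf this.symm
  · push Not at hd
    have hdis : Disjoint p q := fun x => by
      by_cases hx : p x = x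
      · exact Or.inl hx
      · exact Or.inr (hd x hx)
    have hp3 := threeCycle_pow_three hp
    have hq3 := threeCycle_pow_three hq
    have h6 : (p * q) ^ 3 = 1 := by rw [hdis.commute.mul_pow, hp3, hq3, one_mul]
    apply h1
    calc p * q = (p * q) ^ 3 * ((p * q) ^ 2)⁻¹ := by rw [h2, pow_succ (p * q) 2, h2]; simp
      _ = 1 := by rw [h6, h2]; simp

theorem pow_sixty_of_card_support_le_six {g : Perm α} (h : g.support.card ≤ 6) : g ^ 60 = 1 := by
  apply orderOf_dvd_iff_pow_eq_one.1
  rw [← lcm_cycleType]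
  refine Multiset.lcm_dvd.2 fun m hm => ?_
  have h2 := two_le_of_mem_cycleType hm
  have h6 := (le_card_support_of_mem_cycleType hm).trans h
  interval_cases m <;> norm_num

theorem threeCycle_conj_pow_sixty {x : Perm α} (hx : x.IsThreeCycle) (g : Perm α) :
    (x * (g * x * g⁻¹)) ^ 60 = 1 := by
  apply pow_sixty_of_card_support_le_six
  refine (Finset.card_le_card (support_mul_le _ _)).trans ?_
  refine (Finset.card_union_le _ _).trans ?_
  rw [card_support_conj, hx.card_support]

/-- If `x` restricted along an embedding is `u`, and `u * π u π⁻¹` does not have exponent 60,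
then `x` is moved by an even permutation to a conjugate with the same failure. -/
theorem bad_conj_of_embedding {m : ℕ} (e : Fin m ↪ α) (x : Perm α) (u r : Perm (Fin m))
    (hx : ∀ i, x (e i) = e (u i))
    (hw : (u * (r * r * u * (r * r)⁻¹)) ^ 60 ≠ 1) :
    ∃ g ∈ alternatingGroup α, (x * (g * x * g⁻¹)) ^ 60 ≠ 1 := by
  set g : Perm α := viaEmbeddingHom e (r * r) with hg
  refine ⟨g, ?_, ?_⟩
  · rw [hg, map_mul, mem_alternatingGroup, Perm.sign_mul, Int.units_mul_self]
  · intro h
    apply hw
    have hgi : ∀ i, g (e i) = e ((r * r) i) := fun i => by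
      rw [hg, viaEmbeddingHom_apply, viaEmbedding_apply]
    have hgi' : ∀ i, g⁻¹ (e i) = e ((r * r)⁻¹ i) := fun i => by
      rw [hg, ← map_inv, viaEmbeddingHom_apply, viaEmbedding_apply]
    have hw1 : ∀ i, (x * (g * x * g⁻¹)) (e i) = e ((u * (r * r * u * (r * r)⁻¹)) i) := fun i => by
      simp only [Perm.coe_mul, Function.comp_apply, hx, hgi', hgi]
    have hwn : ∀ (k : ℕ) i, ((x * (g * x * g⁻¹)) ^ k) (e i) =
        e (((u * (r * r * u * (r * r)⁻¹)) ^ k) i) := by
      intro k
      induction k with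
      | zero => simp
      | succ k ih => intro i; rw [pow_succ', pow_succ', Perm.mul_apply, ih, hw1, ← Perm.mul_apply]
    ext i
    have h' := hwn 60 i
    rw [h] at h'
    exact congrArg Fin.val (e.injective h'.symm)

theorem pow_sixty_ne_of_seven {G : Type*} [Monoid G] {w : G} (h7 : w ^ 7 = 1) (h4 : w ^ 4 ≠ 1) :
    w ^ 60 ≠ 1 := by
  intro h
  apply h4
  rwa [show 60 = 7 * 8 + 4 from rfl, pow_add, pow_mul, h7, one_pow, one_mul] at h

theorem exists_three_moved_orbit {x : Perm α} (hk : 3 < x.support.card) (a : α) :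
    ∃ b, x b ≠ b ∧ b ≠ a ∧ b ≠ x a ∧ b ≠ x (x a) := by
  obtain ⟨b, hb, hb'⟩ := Finset.exists_mem_notMem_of_card_lt_card
    (lt_of_le_of_lt (Finset.card_le_three (a := a) (b := x a) (c := x (x a))) hk)
  simp only [Finset.mem_insert, Finset.mem_singleton, not_or] at hb'
  exact ⟨b, mem_support.1 hb, hb'⟩

theorem nonThreeCycle_bad {x : Perm α} (hord : orderOf x = 3) (hx : ¬ x.IsThreeCycle)
    (h7 : 7 ≤ Fintype.card α) :
    ∃ g ∈ alternatingGroup α, (x * (g * x * g⁻¹)) ^ 60 ≠ 1 := by
  have hx3 : x ^ 3 = 1 := by rw [← hord]; exact pow_orderOf_eq_one x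
  obtain ⟨k, hk⟩ := cycleType_prime_order (σ := x) (by rw [hord]; exact Nat.prime_three)
  rw [hord] at hk
  have hsupp : x.support.card = 3 * (k + 1) := by
    rw [← sum_cycleType, hk, Multiset.sum_replicate, smul_eq_mul, mul_comm]
  have hk1 : 1 ≤ k := by
    by_contra h0
    exact hx (by rw [IsThreeCycle, hk, show k = 0 by omega]; rfl)
  obtain ⟨a, ha⟩ : ∃ a, x a ≠ a := by
    have : x.support.Nonempty := Finset.card_pos.1 (by omega)
    exact ⟨this.choose, mem_support.1 this.choose_spec⟩
  obtain ⟨h3a, -, -, -⟩ := cycle_orbit hx3 ha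
  obtain ⟨b, hb, hba, hba1, hba2⟩ := exists_three_moved_orbit (x := x) (by omega) a
  obtain ⟨h3b, -, -, -⟩ := cycle_orbit hx3 hb
  obtain ⟨-, a01, a02, a12⟩ := cycle_orbit hx3 ha
  obtain ⟨-, b01, b02, b12⟩ := cycle_orbit hx3 hb
  have key : ∀ (y z : α), x (x (x z)) = z → z ≠ y → z ≠ x y → z ≠ x (x y) → x (x (x y)) = y →
      x z ≠ y ∧ x z ≠ x y ∧ x z ≠ x (x y) ∧ x (x z) ≠ y ∧ x (x z) ≠ x y ∧ x (x z) ≠ x (x y) := by
    intro y z hz h0 h1 h2 hy
    refine ⟨fun h => h2 ?_, fun h => h0 (x.injective h), fun h => h1 (x.injective h),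
      fun h => h1 ?_, fun h => h2 ?_, fun h => h0 (x.injective (x.injective h))⟩
    · have := congrArg (fun w => x (x w)) h; simpa [hz] using this
    · have := congrArg x h; simpa [hz] using this
    · have := congrArg x h; simpa [hz] using this
  obtain ⟨c0, c1, c2, c3, c4, c5⟩ := key a b h3b hba hba1 hba2 h3a
  by_cases hfix : ∃ p, x p = p
  · obtain ⟨p, hp⟩ := hfix
    have hmv : ∀ z, x z ≠ z → p ≠ z ∧ p ≠ x z ∧ p ≠ x (x z) := by
      intro z hz
      refine ⟨?_, ?_, ?_⟩
      · rintro rfl; exact hz hp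
      · rintro rfl; exact hz (x.injective hp)
      · rintro rfl; exact hz (x.injective (x.injective hp))
    obtain ⟨p0, p1, p2⟩ := hmv a ha
    obtain ⟨q0, q1, q2⟩ := hmv b hb
    let e : Fin 7 → α := ![a, x a, x (x a), b, x b, x (x b), p]
    have he : Function.Injective e := by
      have hn : (List.ofFn e).Nodup := by
        simp [e, List.ofFn_succ, a01, a02, a12, b01, b02, b12, Ne.symm hba, Ne.symm hba1,
          Ne.symm hba2, Ne.symm c0, Ne.symm c1, Ne.symm c2, Ne.symm c3, Ne.symm c4, Ne.symm c5,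
          Ne.symm p0, Ne.symm p1, Ne.symm p2, Ne.symm q0, Ne.symm q1, Ne.symm q2]
      exact List.nodup_ofFn.1 hn
    refine bad_conj_of_embedding ⟨e, he⟩ x (cyc 0 1 2 * cyc 3 4 5)
      (swap 0 1 * swap 1 3 * swap 3 6) (fun i => ?_)
      (pow_sixty_ne_of_seven (by decide +kernel) (by decide +kernel))
    fin_cases i <;> simp [e, cyc, swap_apply_def, h3a, h3b, hp]
  · push Not at hfix
    have hall : x.support = Finset.univ := by ext z; simp [hfix z]
    have hcard : 3 * (k + 1) = Fintype.card α := by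
      rw [← hsupp, hall, Finset.card_univ]
    obtain ⟨c, hc⟩ := Finset.exists_mem_notMem_of_card_lt_card
      (s := ({a, x a, x (x a), b, x b, x (x b)} : Finset α)) (t := Finset.univ)
      (lt_of_le_of_lt Finset.card_le_six (by rw [Finset.card_univ]; omega))
    simp only [Finset.mem_insert, Finset.mem_singleton, not_or] at hc
    obtain ⟨-, ca0, ca1, ca2, cb0, cb1, cb2⟩ := hc
    obtain ⟨h3c, o01, o02, o12⟩ := cycle_orbit hx3 (hfix c)
    obtain ⟨d0, d1, d2, d3, d4, d5⟩ := key a c h3c ca0 ca1 ca2 h3a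
    obtain ⟨e0, e1, e2, e3, e4, e5⟩ := key b c h3c cb0 cb1 cb2 h3b
    let e : Fin 9 → α := ![a, x a, x (x a), b, x b, x (x b), c, x c, x (x c)]
    have he : Function.Injective e := by
      have hn : (List.ofFn e).Nodup := by
        simp [e, List.ofFn_succ, a01, a02, a12, b01, b02, b12, o01, o02, o12, Ne.symm hba,
          Ne.symm hba1, Ne.symm hba2, Ne.symm c0, Ne.symm c1, Ne.symm c2, Ne.symm c3, Ne.symm c4,
          Ne.symm c5, Ne.symm ca0, Ne.symm ca1, Ne.symm ca2, Ne.symm cb0, Ne.symm cb1,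
          Ne.symm cb2, Ne.symm d0, Ne.symm d1, Ne.symm d2, Ne.symm d3, Ne.symm d4, Ne.symm d5,
          Ne.symm e0, Ne.symm e1, Ne.symm e2, Ne.symm e3, Ne.symm e4, Ne.symm e5]
      exact List.nodup_ofFn.1 hn
    refine bad_conj_of_embedding ⟨e, he⟩ x (cyc 0 1 2 * cyc 3 4 5 * cyc 6 7 8)
      (swap 0 3 * swap 3 1 * swap 1 4 * swap 4 6) (fun i => ?_)
      (pow_sixty_ne_of_seven (by decide +kernel) (by decide +kernel))
    fin_cases i <;> simp [e, cyc, swap_apply_def, h3a, h3b, h3c]

theorem small_threeCycle {x : Perm α} (hord : orderOf x = 3) (h5 : Fintype.card α ≤ 5) :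
    x.IsThreeCycle := by
  obtain ⟨k, hk⟩ := cycleType_prime_order (σ := x) (by rw [hord]; exact Nat.prime_three)
  rw [hord] at hk
  have hsupp : x.support.card = 3 * (k + 1) := by
    rw [← sum_cycleType, hk, Multiset.sum_replicate, smul_eq_mul, mul_comm]
  have := x.support.card_le_univ
  rw [IsThreeCycle, hk, show k = 0 by omega]; rfl

/-- An automorphism of `A_n` (`n ≠ 6`) maps three-cycles to three-cycles. -/
theorem threeCycle_map (h6 : Fintype.card α ≠ 6) (φ : MulAut (alternatingGroup α))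
    {x : alternatingGroup α} (hx : (x : Perm α).IsThreeCycle) :
    ((φ x : alternatingGroup α) : Perm α).IsThreeCycle := by
  have hord : orderOf ((φ x : alternatingGroup α) : Perm α) = 3 := by
    rw [Subgroup.orderOf_coe, MulEquiv.orderOf_eq, ← Subgroup.orderOf_coe, hx.orderOf]
  rcases le_or_gt (Fintype.card α) 5 with h5 | h5
  · exact small_threeCycle hord h5
  · by_contra hn
    obtain ⟨g, hg, hbad⟩ := nonThreeCycle_bad hord hn (by omega)
    apply hbad
    obtain ⟨g', hg'⟩ := φ.surjective ⟨g, hg⟩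
    have h := congrArg φ (show (x * (g' * x * g'⁻¹)) ^ 60 = 1 from
      Subtype.ext (by simpa using threeCycle_conj_pow_sixty hx (g' : Perm α)))
    simp only [map_pow, map_mul, map_inv, hg', map_one] at h
    simpa using congrArg Subtype.val h

/-- Every element of a subgroup containing all `cyc a b i` contains all three-cycles. -/
theorem cyc_mem_of_edge (H : Subgroup (Perm α)) {a b : α} (hab : a ≠ b)
    (h : ∀ i, i ≠ a → i ≠ b → cyc a b i ∈ H) :
    alternatingGroup α ≤ H := by
  have conj : ∀ g ∈ H, ∀ p q r : α, cyc p q r ∈ H → cyc (g p) (g q) (g r) ∈ H := fun g hg p q r hm =>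
    cyc_conj g p q r ▸ H.mul_mem (H.mul_mem hg hm) (H.inv_mem hg)
  have hb : ∀ i j, i ≠ a → i ≠ b → j ≠ a → j ≠ b → i ≠ j → cyc b i j ∈ H := by
    intro i j i1 i2 j1 j2 ij
    have := conj _ (h i i1 i2) a b j (h j j1 j2)
    rwa [cyc_apply_fst hab i1.symm, cyc_apply_snd i1.symm i2.symm,
      cyc_apply_other j1 j2 ij.symm] at this
  have ha : ∀ i j, i ≠ a → i ≠ b → j ≠ a → j ≠ b → i ≠ j → cyc i a j ∈ H := by
    intro i j i1 i2 j1 j2 ij
    have hm := h i i1 i2
    have := conj _ (H.mul_mem hm hm) a b j (h j j1 j2)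
    simp only [Perm.mul_apply, cyc_apply_fst hab i1.symm, cyc_apply_snd i1.symm i2.symm,
      cyc_apply_trd, cyc_apply_other j1 j2 ij.symm] at this
    exact this
  have rot : ∀ {p q r : α}, p ≠ q → p ≠ r → q ≠ r → cyc q r p = cyc p q r := by
    intro p q r h1 h2 h3
    have h4 := threeCycle_eq_cyc (cyc_isThreeCycle h1 h2 h3) (a := q)
      (by rw [cyc_apply_snd h2 h3]; exact h3.symm)
    rw [cyc_apply_snd h2 h3, cyc_apply_trd] at h4
    exact h4.symm
  have rev : ∀ {p q r : α}, p ≠ q → p ≠ r → q ≠ r → cyc q p r = (cyc p q r)⁻¹ := by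
    intro p q r h1 h2 h3
    refine eq_inv_of_mul_eq_one_left ?_
    ext y
    by_cases y1 : y = p
    · subst y1; simp [cyc_apply_fst h1 h2, cyc_apply_fst h1.symm h3]
    by_cases y2 : y = q
    · subst y2; simp [cyc_apply_snd h2 h3, cyc_apply_trd]
    by_cases y3 : y = r
    · subst y3; simp [cyc_apply_trd, cyc_apply_snd h3 h2]
    simp [cyc_apply_other y1 y2 y3, cyc_apply_other y2 y1 y3]
  have hnone : ∀ i j k, i ≠ a → i ≠ b → j ≠ a → j ≠ b → k ≠ a → k ≠ b → i ≠ j → i ≠ k → j ≠ k →
      cyc i j k ∈ H := by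
    intro i j k i1 i2 j1 j2 k1 k2 ij ik jk
    have := conj _ (h i i1 i2) b j k (hb j k j1 j2 k1 k2 jk)
    rwa [cyc_apply_snd i1.symm i2.symm, cyc_apply_other j1 j2 ij.symm,
      cyc_apply_other k1 k2 ik.symm] at this
  have hfst : ∀ q r, a ≠ q → a ≠ r → q ≠ r → cyc a q r ∈ H := by
    intro q r h1 h2 h3
    by_cases q1 : q = b
    · rw [q1]; exact h r h2.symm (fun e => h3 (q1.trans e.symm))
    by_cases r1 : r = b
    · rw [r1, rot (Ne.symm hab) (fun e => q1 e.symm) h1, rev hab h1 (fun e => q1 e.symm)]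
      exact H.inv_mem (h q h1.symm q1)
    rw [← rot h1 h2 h3, ← rot h3 h1.symm h2.symm]
    exact ha r q h2.symm r1 h1.symm q1 h3.symm
  have hall : ∀ p q r, p ≠ q → p ≠ r → q ≠ r → cyc p q r ∈ H := by
    intro p q r h1 h2 h3
    by_cases p1 : p = a
    · subst p1; exact hfst q r h1 h2 h3
    by_cases q1 : q = a
    · subst q1; rw [← rot h1 h2 h3]; exact hfst r p h3 h1.symm h2.symm
    by_cases r1 : r = a
    · subst r1; rw [← rot h1 h2 h3, ← rot h3 h1.symm h2.symm]; exact hfst p q h2.symm h3.symm h1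
    by_cases p2 : p = b
    · subst p2; exact hb q r q1 h1.symm r1 h2.symm h3
    by_cases q2 : q = b
    · subst q2; rw [← rot h1 h2 h3]; exact hb r p r1 h3.symm p1 h1 h2.symm
    by_cases r2 : r = b
    · subst r2; rw [← rot h1 h2 h3, ← rot h3 h1.symm h2.symm]; exact hb p q p1 h2 q1 h3 h1
    exact hnone p q r p1 p2 q1 q2 r1 r2 h1 h2 h3
  rw [← closure_three_cycles_eq_alternating, Subgroup.closure_le]
  intro f hf
  obtain ⟨p, hp⟩ : ∃ p, f p ≠ p := by
    by_contra hh
    push Not at hh
    exact (IsThreeCycle.isCycle hf).ne_one (Equiv.ext hh)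
  obtain ⟨-, h1, h2, h3⟩ := cycle_orbit (threeCycle_pow_three hf) hp
  rw [threeCycle_eq_cyc hf hp]
  exact hall _ _ _ h1 h2 h3

theorem conjNormal_injective (h4 : 4 ≤ Fintype.card α) :
    Function.Injective (MulAut.conjNormal : Perm α →* MulAut (alternatingGroup α)) := by
  rw [injective_iff_map_eq_one]
  intro σ hσ
  by_contra hne
  obtain ⟨a, ha⟩ : ∃ a, σ a ≠ a := by
    by_contra hh; push Not at hh; exact hne (Equiv.ext hh)
  obtain ⟨c, -, hc⟩ := Finset.exists_mem_notMem_of_card_lt_card
    (lt_of_le_of_lt (Finset.card_le_two (a := a) (b := σ a))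
      (by rw [Finset.card_univ]; omega : 2 < (Finset.univ : Finset α).card))
  simp only [Finset.mem_insert, Finset.mem_singleton, not_or] at hc
  obtain ⟨d, -, hd⟩ := Finset.exists_mem_notMem_of_card_lt_card
    (lt_of_le_of_lt (Finset.card_le_three (a := a) (b := σ a) (c := c))
      (by rw [Finset.card_univ]; omega : 3 < (Finset.univ : Finset α).card))
  simp only [Finset.mem_insert, Finset.mem_singleton, not_or] at hd
  have htc := cyc_isThreeCycle (Ne.symm hc.2) (Ne.symm hd.2.1) (Ne.symm hd.2.2)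
  have h := congrArg (fun ψ : MulAut (alternatingGroup α) =>
    ((ψ ⟨cyc (σ a) c d, htc.mem_alternatingGroup⟩ : alternatingGroup α) : Perm α) (σ a)) hσ
  simp [MulAut.conjNormal_apply, cyc_apply_fst (Ne.symm hc.2) (Ne.symm hd.2.1),
    cyc_apply_other (Ne.symm ha) (Ne.symm hc.1) (Ne.symm hd.1)] at h
  exact hc.2 h.symm

theorem conjNormal_surjective (h4 : 4 ≤ Fintype.card α) (h6 : Fintype.card α ≠ 6) :
    Function.Surjective (MulAut.conjNormal : Perm α →* MulAut (alternatingGroup α)) := by
  intro φ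
  obtain ⟨v0, v1, h01⟩ : ∃ v0 v1 : α, v0 ≠ v1 := Fintype.exists_pair_of_one_lt_card (by omega)
  obtain ⟨i2, -, hi2⟩ := Finset.exists_mem_notMem_of_card_lt_card
    (lt_of_le_of_lt (Finset.card_le_two (a := v0) (b := v1))
      (by rw [Finset.card_univ]; omega : 2 < (Finset.univ : Finset α).card))
  simp only [Finset.mem_insert, Finset.mem_singleton, not_or] at hi2
  obtain ⟨i3, -, hi3⟩ := Finset.exists_mem_notMem_of_card_lt_card
    (lt_of_le_of_lt (Finset.card_le_three (a := v0) (b := v1) (c := i2))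
      (by rw [Finset.card_univ]; omega : 3 < (Finset.univ : Finset α).card))
  simp only [Finset.mem_insert, Finset.mem_singleton, not_or] at hi3
  have hT : ∀ i, i ≠ v0 → i ≠ v1 → (cyc v0 v1 i).IsThreeCycle := fun i a b =>
    cyc_isThreeCycle h01 (Ne.symm a) (Ne.symm b)
  let X : ∀ i, i ≠ v0 → i ≠ v1 → Perm α := fun i a b =>
    ((φ ⟨cyc v0 v1 i, (hT i a b).mem_alternatingGroup⟩ : alternatingGroup α) : Perm α)
  have hX : ∀ i a b, (X i a b).IsThreeCycle := fun i a b =>
    threeCycle_map h6 φ (x := ⟨cyc v0 v1 i, _⟩) (hT i a b)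
  have hinj : ∀ i j a b a' b', X i a b = X j a' b' → i = j := by
    intro i j a b a' b' h
    have h' := congrArg Subtype.val (φ.injective (Subtype.ext h))
    have := congrArg (fun g : Perm α => g v1) h'
    simpa [cyc_apply_snd (Ne.symm a) (Ne.symm b), cyc_apply_snd (Ne.symm a') (Ne.symm b')] using this
  have hedge : ∀ i j (a : i ≠ v0) (b : i ≠ v1) (a' : j ≠ v0) (b' : j ≠ v1), i ≠ j →
      ∃ z, X i a b z ≠ z ∧ X j a' b' z = X i a b z := by
    intro i j a b a' b' hij
    have ne : cyc v0 v1 i * cyc v0 v1 j ≠ 1 := by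
      intro h
      have := congrArg (fun g : Perm α => g v0) h
      simp [cyc_apply_fst h01 (Ne.symm a'), cyc_apply_snd (Ne.symm a) (Ne.symm b)] at this
      exact a this
    have sq : (cyc v0 v1 i * cyc v0 v1 j) ^ 2 = 1 := by
      ext y
      rw [pow_two]
      by_cases y1 : y = v0
      · subst y1; simp [cyc_apply_fst, cyc_apply_snd, cyc_apply_other, cyc_apply_trd, h01,
          Ne.symm a, Ne.symm b, Ne.symm a', Ne.symm b', a, b, hij]
      by_cases y2 : y = v1
      · subst y2; simp [cyc_apply_fst, cyc_apply_snd, cyc_apply_other, cyc_apply_trd, h01,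
          Ne.symm a, Ne.symm b, Ne.symm a', Ne.symm b', a', b', Ne.symm hij]
      by_cases y3 : y = i
      · subst y3; simp [cyc_apply_fst, cyc_apply_snd, cyc_apply_other, cyc_apply_trd, h01,
          Ne.symm a, Ne.symm b, Ne.symm a', a, b, hij]
      by_cases y4 : y = j
      · subst y4; simp [cyc_apply_fst, cyc_apply_snd, cyc_apply_other, cyc_apply_trd, h01,
          Ne.symm a, Ne.symm b, Ne.symm a', Ne.symm b', a', b', Ne.symm hij]
      simp [cyc_apply_other y1 y2 y3, cyc_apply_other y1 y2 y4]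
    refine common_edge (hX i a b) (hX j a' b') ?_ ?_
    · intro h
      apply ne
      have h' : φ (⟨cyc v0 v1 i, (hT i a b).mem_alternatingGroup⟩ *
          ⟨cyc v0 v1 j, (hT j a' b').mem_alternatingGroup⟩) = φ 1 := by
        rw [map_mul, map_one]; exact Subtype.ext h
      simpa using congrArg Subtype.val (φ.injective h')
    · have h' : φ ((⟨cyc v0 v1 i, (hT i a b).mem_alternatingGroup⟩ *
          ⟨cyc v0 v1 j, (hT j a' b').mem_alternatingGroup⟩) ^ 2) = φ 1 :=
        congrArg φ (Subtype.ext (by simpa using sq))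
      rw [map_pow, map_mul, map_one] at h'
      simpa [X] using congrArg Subtype.val h'
  obtain ⟨p, hpmv, hq⟩ := hedge i2 i3 hi2.1 hi2.2 hi3.1 hi3.2.1 (Ne.symm hi3.2.2)
  set P := X i2 hi2.1 hi2.2 with hPdef
  obtain ⟨hP3, hpq, hpc, hqc⟩ := cycle_orbit (threeCycle_pow_three (hX i2 hi2.1 hi2.2)) hpmv
  set q := P p with hqdef
  have hQmv : X i3 hi3.1 hi3.2.1 p ≠ p := by rw [hq]; exact hpmv
  set Q := X i3 hi3.1 hi3.2.1 with hQdef
  obtain ⟨hQ3, -, hpd, hqd⟩ := cycle_orbit (threeCycle_pow_three (hX i3 hi3.1 hi3.2.1)) hQmv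
  rw [hq] at hQ3 hpd hqd
  have hP' := threeCycle_eq_cyc (hX i2 hi2.1 hi2.2) hpmv
  have hQ' := threeCycle_eq_cyc (hX i3 hi3.1 hi3.2.1) hQmv
  rw [← hQdef, hq] at hQ'
  rw [← hPdef, ← hqdef] at hP'
  set c := P q with hcdef
  set d := Q q with hddef
  have hcd : c ≠ d := fun h => hi3.2.2 (hinj i3 i2 hi3.1 hi3.2.1 hi2.1 hi2.2 (by
    rw [← hPdef, ← hQdef, hQ', hP', h]))
  have hQc : Q c = c := by rw [hQ']; exact cyc_apply_other (Ne.symm hpc) (Ne.symm hqc) hcd
  have hPd : P d = d := by rw [hP']; exact cyc_apply_other (Ne.symm hpd) (Ne.symm hqd) (Ne.symm hcd)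
  -- every image contains the edge `p ↦ q`
  have hall : ∀ i a b, X i a b p = q := by
    intro i a b
    by_cases h2 : i = i2
    · subst h2; rfl
    by_cases h3 : i = i3
    · subst h3; exact hq
    by_contra hne
    obtain ⟨u, hu1, hu2⟩ := hedge i2 i hi2.1 hi2.2 a b (Ne.symm h2)
    obtain ⟨w, hw1, hw2⟩ := hedge i3 i hi3.1 hi3.2.1 a b (Ne.symm h3)
    rw [← hPdef] at hu1 hu2
    rw [← hQdef] at hw1 hw2
    set Z := X i a b with hZ
    have hu : (u = q ∧ Z q = c) ∨ (u = c ∧ Z c = p) := by
      by_cases e1 : u = p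
      · subst e1; exact absurd hu2 hne
      by_cases e2 : u = q
      · subst e2; exact Or.inl ⟨rfl, hu2⟩
      by_cases e3 : u = c
      · subst e3; exact Or.inr ⟨rfl, hu2.trans hP3⟩
      exact absurd (by rw [hP']; exact cyc_apply_other e1 e2 e3) hu1
    have hw : (w = q ∧ Z q = d) ∨ (w = d ∧ Z d = p) := by
      by_cases e1 : w = p
      · subst e1; exact absurd (hw2.trans hq) hne
      by_cases e2 : w = q
      · subst e2; exact Or.inl ⟨rfl, hw2⟩
      by_cases e3 : w = d
      · subst e3; exact Or.inr ⟨rfl, hw2.trans hQ3⟩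
      exact absurd (by rw [hQ']; exact cyc_apply_other e1 e2 e3) hw1
    have h4 : ({p, q, c, d} : Finset α).card = 4 := by
      rw [Finset.card_insert_of_notMem, Finset.card_insert_of_notMem, Finset.card_insert_of_notMem,
        Finset.card_singleton] <;> simp [hpq, hpc, hqc, hpd, hqd, hcd]
    have hsub : ({p, q, c, d} : Finset α) ⊆ Z.support := by
      intro y hy
      simp only [Finset.mem_insert, Finset.mem_singleton] at hy
      rcases hu with ⟨rfl, hu⟩ | ⟨rfl, hu⟩ <;> rcases hw with ⟨rfl, hw⟩ | ⟨rfl, hw⟩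
      · exact absurd (hu.symm.trans hw) hcd
      · -- `q ↦ c` and `d ↦ p`
        rcases hy with rfl | rfl | rfl | rfl
        · exact apply_mem_support.2 (mem_support.2 (by rw [hw]; exact hpd)) |> fun h => by
            rwa [hw] at h
        · exact mem_support.2 (by rw [hu]; exact hqc.symm)
        · exact apply_mem_support.2 (mem_support.2 (by rw [hu]; exact hqc.symm)) |> fun h => by
            rwa [hu] at h
        · exact mem_support.2 (by rw [hw]; exact hpd)
      · rcases hy with rfl | rfl | rfl | rfl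
        · exact apply_mem_support.2 (mem_support.2 (by rw [hu]; exact hpc)) |> fun h => by
            rwa [hu] at h
        · exact mem_support.2 (by rw [hw]; exact hqd.symm)
        · exact mem_support.2 (by rw [hu]; exact hpc)
        · exact apply_mem_support.2 (mem_support.2 (by rw [hw]; exact hqd.symm)) |> fun h => by
            rwa [hw] at h
      · exact absurd (Z.injective (hu.trans hw.symm)) hcd
    have := Finset.card_le_card hsub
    rw [h4, (hX i a b).card_support] at this
    omega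
  have hform : ∀ i a b, X i a b = cyc p q (X i a b q) ∧ X i a b q ≠ p ∧ X i a b q ≠ q := by
    intro i a b
    have hm : X i a b p ≠ p := by rw [hall i a b]; exact hpq.symm
    obtain ⟨-, -, h2, h3⟩ := cycle_orbit (threeCycle_pow_three (hX i a b)) hm
    rw [hall i a b] at h2 h3
    exact ⟨by conv_lhs => rw [threeCycle_eq_cyc (hX i a b) hm, hall i a b], h2.symm, h3.symm⟩
  let s : α → α := fun i => if a : i = v0 then p else if b : i = v1 then q else X i a b q
  have hs0 : s v0 = p := by simp [s]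
  have hs1 : s v1 = q := by simp [s, Ne.symm h01]
  have hsi : ∀ i a b, s i = X i a b q := fun i a b => by simp [s, a, b]
  have hsinj : Function.Injective s := by
    intro i j h
    by_cases a : i = v0 <;> by_cases a' : j = v0
    · rw [a, a']
    · subst a
      by_cases b' : j = v1
      · subst b'; rw [hs0, hs1] at h; exact absurd h hpq
      · rw [hs0, hsi j a' b'] at h; exact absurd h.symm (hform j a' b').2.1
    · subst a'
      by_cases b : i = v1
      · subst b; rw [hs0, hs1] at h; exact absurd h hpq.symm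
      · rw [hs0, hsi i a b] at h; exact absurd h (hform i a b).2.1
    · by_cases b : i = v1 <;> by_cases b' : j = v1
      · rw [b, b']
      · subst b; rw [hs1, hsi j a' b'] at h; exact absurd h.symm (hform j a' b').2.2
      · subst b'; rw [hs1, hsi i a b] at h; exact absurd h (hform i a b).2.2
      · rw [hsi i a b, hsi j a' b'] at h
        exact hinj i j a b a' b' (by rw [(hform i a b).1, (hform j a' b').1, h])
  let σ : Perm α := Equiv.ofBijective s (Finite.injective_iff_bijective.1 hsinj)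
  refine ⟨σ, ?_⟩
  let K : Subgroup (alternatingGroup α) :=
    MonoidHom.eqLocus (MulAut.conjNormal σ).toMonoidHom φ.toMonoidHom
  have hgen : ∀ i, i ≠ v0 → i ≠ v1 → cyc v0 v1 i ∈ K.map (alternatingGroup α).subtype := by
    intro i a b
    refine ⟨⟨cyc v0 v1 i, (hT i a b).mem_alternatingGroup⟩, ?_, rfl⟩
    refine Subtype.ext ?_
    simp only [MulEquiv.coe_toMonoidHom, MulAut.conjNormal_apply, cyc_conj]
    show cyc (s v0) (s v1) (s i) = X i a b
    rw [hs0, hs1, hsi i a b, ← (hform i a b).1]
  have hle := cyc_mem_of_edge (K.map (alternatingGroup α).subtype) h01 hgen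
  refine MulEquiv.ext fun y => ?_
  obtain ⟨z, hz, hzy⟩ := hle y.2
  obtain rfl : z = y := Subtype.ext hzy
  exact hz

theorem conjNormal_bijective (h4 : 4 ≤ Fintype.card α) (h6 : Fintype.card α ≠ 6) :
    Function.Bijective (MulAut.conjNormal : Perm α →* MulAut (alternatingGroup α)) :=
  ⟨conjNormal_injective h4, conjNormal_surjective h4 h6⟩

end CfsgLib.AltAut
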